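import Mathlib
import Cfsg.Agent.Lib.Helper9.TC2Spor
import Cfsg.Agent.Lib.Helper9.TC2Cyc
import Cfsg.Agent.Lib.Helper9.TCData.L34A0.Cert
import Cfsg.Agent.Lib.Helper9.TCData.L34B0.Cert
import Cfsg.Agent.Lib.Helper9.TCData.L34CX.Cert

set_option autoImplicit false
set_option maxRecDepth 1000000

/-! A group presented on two generators `u`, `v` of orders 5 and 7 is simple of order 20160
(it is the group `PSL(3,4)`). -/

namespace Cfsg.Agent.Helper9.L34Simple

open Cfsg.Agent.Helper9 Cfsg.Agent.Helper9.TC2 Cfsg.Agent.Helper9.TCData Cfsg.Spor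

/-- The presented group. -/
abbrev PL34 : Type := PresentedGroup (relSet L34B0.edges L34B0.extra)

theorem hub : Finite PL34 ∧ Nat.card PL34 ≤ 20160 := by
  have hH := card_coxH_single_le (edges := L34A0.edges) (extra := L34A0.extra)
    (FreeGroup.mk [((1 : Fin 2), true)]) 7 (by decide) (by
      right
      show _ ∈ L34A0.extra
      decide +kernel)
  have h0 := L34A0.cert.card_le hH.1 hH.2
  rw [L34A0.cert_n] at h0
  exact h0

theorem hslp : ∀ j < L34B0.slp.length, ∀ c ∈ (L34B0.slp.getD j (0, [])).2, c < L34B0.tab.k + j := by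
  decide +kernel

theorem hok : L34B0.cert.LevsOK (L34B0.tab.k + L34B0.slp.length) L34B0.lidx L34B0.lpar L34B0.lgi 0 []
    L34B0.levs := by
  unfold L34B0.levs
  refine ⟨by decide, by decide +kernel, L34B0.hT0, by decide +kernel, ?_⟩
  refine ⟨by decide, by decide +kernel, L34B0.hT1, by decide +kernel, ?_⟩
  refine ⟨by decide, by decide +kernel, L34B0.hT2, by decide +kernel, ?_⟩
  refine ⟨by decide, by decide +kernel, L34B0.hT3, by decide +kernel, ?_⟩
  trivial

theorem hprod : CoxCert.levProd L34B0.levs = 20160 := by decide +kernel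

theorem hlab : ∀ i < L34B0.cert.D.n, L34B0.orb.lab i < 2 := by
  intro i hi
  have := L34B0.hOL i hi
  rwa [Nat.blt_eq] at this

theorem hroot : ∀ l < 2, L34B0.orb.root l < L34B0.cert.D.n ∧ L34B0.orb.lab (L34B0.orb.root l) = l := by
  decide +kernel

theorem hsz : ∀ l < 2, cnt (fun i => Nat.beq (L34B0.orb.lab i) l) L34B0.cert.D.n =
    ([1, 20] : List ℕ).getD l 0 := by
  decide +kernel

theorem hsub : ∀ T ∈ (Finset.range 2).powerset, 0 ∈ T →
    (∑ l ∈ T, ([1, 20] : List ℕ).getD l 0) ∣ L34B0.cert.D.n →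
    T = {0} ∨ T = Finset.range 2 := by
  decide +kernel

theorem hxw : colWord L34B0.cert.cols L34CX.xelt = L34B0.xw := by decide +kernel

theorem hx : ∀ i < L34B0.cert.D.n,
    (runT L34B0.cert.D (colWord L34B0.cert.cols L34CX.xelt))^[7 ^ 1] i = i := by
  intro i hi
  rw [hxw]
  exact Nat.eq_of_beq_eq_true (L34B0.hX i hi)

/-- The presented group is simple of order 20160. -/
theorem l34_simple : IsSimpleGroup PL34 ∧ Nat.card PL34 = 20160 := by
  have : Fact (Nat.Prime 7) := ⟨by norm_num⟩
  exact L34B0.cert.isSimple_card 20160 hub L34B0.slp hslp L34B0.hSlp L34B0.lidx L34B0.lpar L34B0.lgi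
    L34B0.levs hok hprod L34B0.orb L34B0.hO1 L34B0.hO2 2 0 [1, 20] hlab hroot hsz
    (by decide +kernel) (by decide) (by decide) hsub 7 1 (by decide) (by norm_num) (by norm_num)
    L34CX.xelt 1 hx (by
      have h := (L34CX.cert.card_eq_of_nil (by intro s hs; exact absurd hs (by simp [L34CX.sgensL]))).2
      rw [L34CX.cert_n] at h
      exact h)

end Cfsg.Agent.Helper9.L34Simple
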