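import Mathlib
import Cfsg.Agent.Lib.Helper9.F4

set_option autoImplicit false
set_option maxRecDepth 100000

/-! Vectors and matrices of size 3 over the field with four elements. Families of matrices of
determinant one and the values of words in them. -/

namespace Cfsg.Agent.Helper9.Vec3F4

open Matrix

/-- The entries of a vector. -/
structure V3 where
  x0 : F4
  x1 : F4
  x2 : F4
deriving DecidableEq

/-- The vector of the entries. -/
def V3.toVec (v : V3) : Fin 3 → F4 :=
  ![v.x0, v.x1, v.x2]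

/-- A multiple of a vector. -/
def V3.scale (c : F4) (v : V3) : V3 := ⟨c * v.x0, c * v.x1, c * v.x2⟩

/-- The product of a row and a column. -/
def dot (r v : V3) : F4 :=
  r.x0 * v.x0 + r.x1 * v.x1 + r.x2 * v.x2

/-- The rows of a matrix. -/
structure M3 where
  r0 : V3
  r1 : V3
  r2 : V3

/-- The product of a matrix and a column. -/
def M3.app (M : M3) (v : V3) : V3 :=
  ⟨dot M.r0 v, dot M.r1 v, dot M.r2 v⟩

/-- The matrix of the rows. -/
def M3.toMat (M : M3) : Matrix (Fin 3) (Fin 3) F4 := Matrix.of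
  ![M.r0.toVec, M.r1.toVec, M.r2.toVec]

theorem dot_eq (r v : V3) : dot r v = r.toVec ⬝ᵥ v.toVec := by
  simp only [dot, dotProduct, V3.toVec]
  simp only [Fin.sum_univ_succ, Fin.sum_univ_zero, Matrix.cons_val_zero, Matrix.cons_val_succ,
    add_zero]
  ring

theorem toMat_mulVec (M : M3) (v : V3) : M.toMat *ᵥ v.toVec = (M.app v).toVec := by
  ext i
  fin_cases i <;> exact (dot_eq _ _).symm

theorem scale_toVec (c : F4) (v : V3) : (V3.scale c v).toVec = c • v.toVec := by
  ext i
  fin_cases i <;> rfl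

/-- The basis vectors. -/
def bas : Fin 3 → V3 := ![
  ⟨1, 0, 0⟩,
  ⟨0, 1, 0⟩,
  ⟨0, 0, 1⟩]

theorem bas_toVec (j : Fin 3) : (bas j).toVec = Pi.single j 1 := by
  ext i
  fin_cases j <;> fin_cases i <;> simp [bas, V3.toVec]

/-- Two matrices which agree on the basis vectors are equal. -/
theorem eq_of_bas (A B : Matrix (Fin 3) (Fin 3) F4)
    (h : ∀ j : Fin 3, A *ᵥ (bas j).toVec = B *ᵥ (bas j).toVec) : A = B := by
  ext i j
  have h1 := congrFun (h j) i
  rw [bas_toVec, Matrix.mulVec_single_one, Matrix.mulVec_single_one] at h1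
  exact h1

/-- A matrix which fixes the basis vectors is the identity. -/
theorem eq_one_of_bas (A : Matrix (Fin 3) (Fin 3) F4)
    (h : ∀ j : Fin 3, A *ᵥ (bas j).toVec = (bas j).toVec) : A = 1 := by
  apply eq_of_bas
  intro j
  rw [h j, Matrix.one_mulVec]

/-- A matrix which multiplies the basis vectors by `c` is scalar. -/
theorem eq_scalar_of_bas (A : Matrix (Fin 3) (Fin 3) F4) (c : F4)
    (h : ∀ j : Fin 3, A *ᵥ (bas j).toVec = c • (bas j).toVec) : A = Matrix.scalar (Fin 3) c := by
  apply eq_of_bas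
  intro j
  rw [h j, Matrix.scalar_apply, ← Matrix.smul_one_eq_diagonal, Matrix.smul_mulVec,
    Matrix.one_mulVec]

theorem toMat_mul_eq_one (A B : M3) (h : ∀ j : Fin 3, A.app (B.app (bas j)) = bas j) :
    A.toMat * B.toMat = 1 := by
  apply eq_one_of_bas
  intro j
  rw [← Matrix.mulVec_mulVec, toMat_mulVec, toMat_mulVec, h j]

section Family

variable {ι : Type} (g gi : ι → M3)

/-- The value of a word in the matrices and their inverses on a vector. -/
def ev : List (ι × Bool) → V3 → V3
  | [], v => v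
  | (s, true) :: L, v => (g s).app (ev L v)
  | (s, false) :: L, v => (gi s).app (ev L v)

variable (hd : ∀ s : ι, (g s).toMat.det = 1)
  (hg : ∀ s : ι, ∀ j : Fin 3, (g s).app ((gi s).app (bas j)) = bas j)

/-- The matrices as elements of the special linear group. -/
def slOf (s : ι) : Matrix.SpecialLinearGroup (Fin 3) F4 := ⟨(g s).toMat, hd s⟩

theorem slOf_val (s : ι) : ((slOf g hd s : Matrix.SpecialLinearGroup (Fin 3) F4) : Matrix (Fin 3) (Fin 3) F4) = (g s).toMat := rfl

include hg in
theorem slOf_inv_val (s : ι) :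
    (((slOf g hd s)⁻¹ : Matrix.SpecialLinearGroup (Fin 3) F4) : Matrix (Fin 3) (Fin 3) F4) = (gi s).toMat := by
  rw [Matrix.SpecialLinearGroup.coe_inv, slOf_val]
  have h1 := toMat_mul_eq_one _ _ (hg s)
  have h2 : (g s).toMat.adjugate * ((g s).toMat * (gi s).toMat) = (g s).toMat.adjugate := by
    rw [h1, mul_one]
  rw [← mul_assoc, Matrix.adjugate_mul, hd s, one_smul, one_mul] at h2
  exact h2.symm

include hg in
theorem lift_mulVec (L : List (ι × Bool)) (v : V3) :
    ((FreeGroup.lift (slOf g hd) (FreeGroup.mk L) : Matrix.SpecialLinearGroup (Fin 3) F4) :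
      Matrix (Fin 3) (Fin 3) F4) *ᵥ v.toVec = (ev g gi L v).toVec := by
  induction L with
  | nil =>
    have h : (FreeGroup.mk [] : FreeGroup ι) = 1 := rfl
    rw [h, map_one, ev]
    show (1 : Matrix (Fin 3) (Fin 3) F4) *ᵥ v.toVec = v.toVec
    rw [Matrix.one_mulVec]
  | cons p L ih =>
    obtain ⟨s, b⟩ := p
    have h : (FreeGroup.mk ((s, b) :: L) : FreeGroup ι) =
        FreeGroup.mk [(s, b)] * FreeGroup.mk L := rfl
    rw [h, map_mul, Matrix.SpecialLinearGroup.coe_mul, ← Matrix.mulVec_mulVec, ih]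
    cases b
    · have h3 : (FreeGroup.mk [(s, false)] : FreeGroup ι) = (FreeGroup.of s)⁻¹ := rfl
      rw [h3, map_inv, FreeGroup.lift_apply_of, slOf_inv_val g gi hd hg, ev]
      exact toMat_mulVec _ _
    · have h3 : (FreeGroup.mk [(s, true)] : FreeGroup ι) = FreeGroup.of s := rfl
      rw [h3, FreeGroup.lift_apply_of, slOf_val, ev]
      exact toMat_mulVec _ _

include hg in
theorem lift_eq_scalar [DecidableEq ι] (r : FreeGroup ι) (c : F4)
    (h : ∀ j : Fin 3, ev g gi r.toWord (bas j) = V3.scale c (bas j)) :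
    ((FreeGroup.lift (slOf g hd) r : Matrix.SpecialLinearGroup (Fin 3) F4) :
      Matrix (Fin 3) (Fin 3) F4) = Matrix.scalar (Fin 3) c := by
  have e : r = FreeGroup.mk r.toWord := FreeGroup.mk_toWord.symm
  rw [e]
  apply eq_scalar_of_bas
  intro j
  rw [lift_mulVec g gi hd hg, h j, scale_toVec]

end Family

end Cfsg.Agent.Helper9.Vec3F4
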