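import Mathlib
import Cfsg.Agent.Lib.Helper9.L34.Simple
import Cfsg.Agent.Lib.Helper9.L34.Vec3F4
import Cfsg.Agent.Lib.Helper9.TC2Fin
import Cfsg.Agent.Lib.Helper2.CardSL

set_option autoImplicit false
set_option maxRecDepth 1000000

/-! The presented group of `L34Simple` is isomorphic to `PSL(3, F)` for any field `F` with four
elements. -/

namespace Cfsg.Agent.Helper9.L34Iso

open Matrix Cfsg Cfsg.Agent.Helper9 Cfsg.Agent.Helper9.TC2 Cfsg.Agent.Helper9.TCData
  Cfsg.Spor Cfsg.Agent.Helper9.Vec3F4 Cfsg.Agent.Helper9.L34Simple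

open F4 in
/-- The matrices of the two generators. -/
def g3 : Fin 2 → M3 := ![
  ⟨⟨1, w2, w2⟩, ⟨0, w2, w⟩, ⟨1, w2, 1⟩⟩,
  ⟨⟨0, 1, w⟩, ⟨1, w, 1⟩, ⟨w, w2, w2⟩⟩]

open F4 in
/-- The matrices of the inverses of the two generators. -/
def gi3 : Fin 2 → M3 := ![
  ⟨⟨w, 1, w2⟩, ⟨w, w, w⟩, ⟨w2, 0, w2⟩⟩,
  ⟨⟨w, w, w⟩, ⟨1, w2, w⟩, ⟨0, w, 1⟩⟩]

theorem g3_inv : ∀ s : Fin 2, ∀ j : Fin 3, (g3 s).app ((gi3 s).app (bas j)) = bas j := by
  decide +kernel

theorem g3_det : ∀ s : Fin 2, (g3 s).toMat.det = 1 := by
  intro s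
  rw [Matrix.det_fin_three]
  revert s
  decide +kernel

/-- The matrices of the generators, over the model field. -/
def U3 : Fin 2 → Matrix.SpecialLinearGroup (Fin 3) F4 := slOf g3 g3_det

theorem rel_extra : ∀ r ∈ L34B0.extra, ∃ c : F4, c ^ 3 = 1 ∧
    ∀ j : Fin 3, ev g3 gi3 r.toWord (bas j) = V3.scale c (bas j) := by
  decide +kernel

theorem g3_entry : (g3 0).toMat 0 1 ≠ 0 := by decide +kernel

section Generic

variable {F : Type*} [Field F] [Fintype F] (hF : Fintype.card F = 4)

/-- The model field is the field `F`. -/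
noncomputable def eF : F4 ≃+* F := FiniteField.ringEquivOfCardEq (F4.card.trans hF.symm)

/-- The generators, over `F`. -/
noncomputable def gS (s : Fin 2) : Matrix.SpecialLinearGroup (Fin 3) F :=
  Matrix.SpecialLinearGroup.map (eF hF).toRingHom (U3 s)

theorem hcomp : FreeGroup.lift (gS hF) =
    (Matrix.SpecialLinearGroup.map (eF hF).toRingHom).comp (FreeGroup.lift U3) := by
  apply FreeGroup.ext_hom
  intro s
  simp only [MonoidHom.comp_apply, FreeGroup.lift_apply_of]
  rfl

theorem lift_mem_center (r : FreeGroup (Fin 2)) (hr : r ∈ L34B0.extra) :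
    FreeGroup.lift (gS hF) r ∈ Subgroup.center (Matrix.SpecialLinearGroup (Fin 3) F) := by
  obtain ⟨c, hc, h⟩ := rel_extra r hr
  rw [Matrix.SpecialLinearGroup.mem_center_iff]
  refine ⟨eF hF c, ?_, ?_⟩
  · rw [Fintype.card_fin, ← map_pow, hc, map_one]
  · have h1 := lift_eq_scalar g3 gi3 g3_det g3_inv r c h
    rw [hcomp, MonoidHom.comp_apply]
    show _ = (eF hF).toRingHom.mapMatrix _
    rw [show (FreeGroup.lift U3 r : Matrix (Fin 3) (Fin 3) F4) = Matrix.scalar (Fin 3) c from h1]
    ext i j
    simp only [Matrix.scalar_apply, RingHom.mapMatrix_apply, Matrix.map_apply,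
      Matrix.diagonal_apply]
    split_ifs <;> simp

/-- The generators in the projective group. -/
noncomputable def gP (s : Fin 2) : Matrix.ProjectiveSpecialLinearGroup (Fin 3) F :=
  QuotientGroup.mk (gS hF s)

theorem lift_gP (r : FreeGroup (Fin 2)) :
    FreeGroup.lift (gP hF) r = QuotientGroup.mk (FreeGroup.lift (gS hF) r) := by
  have : FreeGroup.lift (gP hF) =
      (QuotientGroup.mk' (Subgroup.center (Matrix.SpecialLinearGroup (Fin 3) F))).comp
        (FreeGroup.lift (gS hF)) := by
    apply FreeGroup.ext_hom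
    intro s
    simp only [MonoidHom.comp_apply, FreeGroup.lift_apply_of]
    rfl
  rw [this]
  rfl

theorem rels : ∀ r ∈ relSet L34B0.edges L34B0.extra, FreeGroup.lift (gP hF) r = 1 := by
  intro r hr
  rcases hr with hr | hr
  · obtain ⟨x, hx, -⟩ := hr
    exact absurd hx (by simp [coxNodes, L34B0.edges])
  · rw [lift_gP]
    exact (QuotientGroup.eq_one_iff _).2 (lift_mem_center hF r hr)

/-- The homomorphism to the projective special linear group. -/
noncomputable def theta : PL34 →* Matrix.ProjectiveSpecialLinearGroup (Fin 3) F :=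
  PresentedGroup.toGroup (rels hF)

theorem theta_of (s : Fin 2) : theta hF (PresentedGroup.of s) = gP hF s :=
  PresentedGroup.toGroup.of (rels hF)

theorem theta_mk (r : FreeGroup (Fin 2)) :
    theta hF (PresentedGroup.mk _ r) = FreeGroup.lift (gP hF) r := rfl

theorem gP_ne_one : gP hF 0 ≠ 1 := by
  intro h1
  have h2 := (QuotientGroup.eq_one_iff _).1 h1
  rw [Matrix.SpecialLinearGroup.mem_center_iff] at h2
  obtain ⟨c, -, hc⟩ := h2
  have h3 : (gS hF 0 : Matrix (Fin 3) (Fin 3) F) 0 1 = eF hF ((g3 0).toMat 0 1) := rfl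
  rw [← hc] at h3
  simp only [Matrix.scalar_apply, Matrix.diagonal_apply] at h3
  rw [if_neg (by decide)] at h3
  exact g3_entry ((map_eq_zero_iff _ (eF hF).injective).1 h3.symm)

theorem theta_injective : Function.Injective (theta hF) := by
  have := l34_simple.1
  refine injective_of_simple (theta hF) (PresentedGroup.of 0) ?_
  rw [theta_of]
  exact gP_ne_one hF

include hF in
theorem card_units : Nat.card Fˣ = 3 := by
  classical
  rw [Nat.card_eq_fintype_card, Fintype.card_units, hF]

include hF in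
theorem card_SL : Nat.card (Matrix.SpecialLinearGroup (Fin 3) F) = 60480 := by
  have h1 := Cfsg.Agent.Helper2.card_GL_eq_card_SL_mul (n := Fin 3) (F := F)
  rw [card_units hF, Matrix.card_GL_field, hF] at h1
  simp only [Fintype.card_fin, Fin.prod_univ_three] at h1
  norm_num at h1
  omega

include hF in
theorem card_center :
    Nat.card (Subgroup.center (Matrix.SpecialLinearGroup (Fin 3) F)) = 3 := by
  classical
  rw [Nat.card_congr (Matrix.SpecialLinearGroup.center_equiv_rootsOfUnity (n := Fin 3)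
    (R := F)).toEquiv]
  have h1 : rootsOfUnity (max (Fintype.card (Fin 3)) 1) F = ⊤ := by
    rw [eq_top_iff]
    intro x _
    rw [mem_rootsOfUnity, Fintype.card_fin]
    have h2 : x ^ Fintype.card Fˣ = 1 := pow_card_eq_one
    rw [Fintype.card_units, hF] at h2
    exact h2
  rw [h1, Subgroup.card_top, card_units hF]

include hF in
theorem card_PSL : Nat.card (Matrix.ProjectiveSpecialLinearGroup (Fin 3) F) = 20160 := by
  have h := Subgroup.card_eq_card_quotient_mul_card_subgroup
    (Subgroup.center (Matrix.SpecialLinearGroup (Fin 3) F))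
  rw [card_SL hF, card_center hF] at h
  have h2 : Nat.card (Matrix.ProjectiveSpecialLinearGroup (Fin 3) F) =
      Nat.card (Matrix.SpecialLinearGroup (Fin 3) F ⧸
        Subgroup.center (Matrix.SpecialLinearGroup (Fin 3) F)) := rfl
  omega

theorem theta_bijective : Function.Bijective (theta hF) := by
  have : Finite PL34 := hub.1
  apply (theta_injective hF).bijective_of_nat_card_le
  rw [card_PSL hF, l34_simple.2]

/-- The isomorphism. -/
noncomputable def iso : PL34 ≃* Matrix.ProjectiveSpecialLinearGroup (Fin 3) F :=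
  MulEquiv.ofBijective (theta hF) (theta_bijective hF)

end Generic

end Cfsg.Agent.Helper9.L34Iso
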