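import Mathlib
import Cfsg.Agent.Lib.Helper9.L34.Iso
import Cfsg.Agent.Lib.Helper9.Sz8.StemCover
import Cfsg.Agent.Lib.Helper9.TC2Word

set_option autoImplicit false
set_option maxRecDepth 1000000

/-! The cover of `PSL(3,4)` with kernel of order 48 as a presented group: its map onto the simple
group, the kernel as the central subgroup generated by the images of the relators of the simple
group, and perfectness. -/

namespace Cfsg.Agent.Helper9.L34Cover

open Cfsg Cfsg.Agent.Helper9 Cfsg.Agent.Helper9.TC2 Cfsg.Agent.Helper9.TCData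
  Cfsg.Spor Cfsg.Agent.Helper9.L34Simple Cfsg.Agent.Helper9.L34Iso Cfsg.Agent.Helper9.Vec3F4
open scoped commutatorElement

/-! ### The relators -/

/-- The free group. -/
abbrev FG : Type := FreeGroup (Fin 2)

/-- The first generator. -/
def u : FG := FreeGroup.of 0
/-- The second generator. -/
def v : FG := FreeGroup.of 1
/-- A commutator word for `u ^ 2`. -/
def w1 : FG := v⁻¹ * u * v⁻¹ * u⁻¹ * v * u⁻¹ * v * u
/-- A commutator word for `v ^ 3`. -/
def w2 : FG := v⁻¹ * u⁻¹ * v * u * v⁻¹ * u * v * u⁻¹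
/-- The relators of the simple group. -/
def R : Fin 4 → FG := ![(v * u⁻¹ * v) ^ 2, (v⁻¹ * u) ^ 4, (v * v * v * u⁻¹ * v * u⁻¹ * v) ^ 5,
  (v * v * v * u⁻¹ * v * u⁻¹ * v * u) ^ 5]
/-- Commutators of words. -/
def cm (r x : FG) : FG := r * x * r⁻¹ * x⁻¹

/-- The relators of the covering group. -/
def extraC : List FG := [u ^ 5, v ^ 7, w1 ^ 96 * (u ^ 2)⁻¹, w2 ^ 120 * (v ^ 3)⁻¹,
    cm (R 0) u, cm (R 0) v, cm (R 1) u, cm (R 1) v, cm (R 2) u, cm (R 2) v, cm (R 3) u,
    cm (R 3) v]

theorem extraG_eq : L34B0.extra = [u ^ 5, v ^ 7, R 0, R 1, R 2, R 3] := by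
  decide +kernel

/-! ### The covering group and its map to the simple group -/

/-- The relators of the covering group. -/
abbrev relsC : Set FG := relSet ([] : List (Fin 2 × ℕ × Fin 2)) extraC

/-- The relators of the simple group. -/
abbrev relsG : Set FG := relSet L34B0.edges L34B0.extra

/-- The covering group. -/
abbrev PC : Type := PresentedGroup relsC

theorem mem_relsC {r : FG} (h : r ∈ extraC) : r ∈ relsC := Or.inr h

theorem mem_relsG {r : FG} (h : r ∈ L34B0.extra) : r ∈ relsG := Or.inr h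

theorem relsC_cases {r : FG} (h : r ∈ relsC) : r ∈ extraC := by
  rcases h with h | h
  · obtain ⟨x, hx, -⟩ := h
    exact absurd hx (by simp [coxNodes])
  · exact h

theorem R_mem (j : Fin 4) : R j ∈ relsG := by
  apply mem_relsG
  rw [extraG_eq]
  fin_cases j <;> simp

theorem mkG_R (j : Fin 4) : PresentedGroup.mk relsG (R j) = 1 :=
  PresentedGroup.one_of_mem (R_mem j)

/-! ### Scalar matrices -/

theorem ev_P : ∀ r ∈ [w1 ^ 96 * (u ^ 2)⁻¹, w2 ^ 120 * (v ^ 3)⁻¹], ∃ c : F4, c ^ 3 = 1 ∧
    ∀ j : Fin 3, ev g3 gi3 r.toWord (bas j) = V3.scale c (bas j) := by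
  decide +kernel

theorem lift_mem_center' {F : Type*} [Field F] [Fintype F] (hF : Fintype.card F = 4)
    (r : FG) (c : F4) (hc : c ^ 3 = 1)
    (h : ∀ j : Fin 3, ev g3 gi3 r.toWord (bas j) = V3.scale c (bas j)) :
    FreeGroup.lift (gS hF) r ∈ Subgroup.center (Matrix.SpecialLinearGroup (Fin 3) F) := by
  rw [Matrix.SpecialLinearGroup.mem_center_iff]
  refine ⟨eF hF c, ?_, ?_⟩
  · rw [Fintype.card_fin, ← map_pow, hc, map_one]
  · have h1 := lift_eq_scalar g3 gi3 g3_det g3_inv r c h
    rw [hcomp, MonoidHom.comp_apply]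
    show _ = (eF hF).toRingHom.mapMatrix _
    rw [show (FreeGroup.lift U3 r : Matrix (Fin 3) (Fin 3) F4) = Matrix.scalar (Fin 3) c from h1]
    ext i j
    simp only [Matrix.scalar_apply, RingHom.mapMatrix_apply, Matrix.map_apply,
      Matrix.diagonal_apply]
    split_ifs <;> simp

theorem mkG_eq_one_of_scalar (r : FG) (c : F4) (hc : c ^ 3 = 1)
    (h : ∀ j : Fin 3, ev g3 gi3 r.toWord (bas j) = V3.scale c (bas j)) :
    PresentedGroup.mk relsG r = 1 := by
  have h1 := lift_mem_center' (F := F4) F4.card r c hc h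
  have h2 : theta (F := F4) F4.card (PresentedGroup.mk relsG r) = 1 := by
    rw [theta_mk, lift_gP]
    exact (QuotientGroup.eq_one_iff _).2 h1
  apply theta_injective (F := F4) F4.card
  rw [h2, map_one]

theorem mkG_P1 : PresentedGroup.mk relsG (w1 ^ 96 * (u ^ 2)⁻¹) = 1 := by
  obtain ⟨c, hc, h⟩ := ev_P (w1 ^ 96 * (u ^ 2)⁻¹) (by simp)
  exact mkG_eq_one_of_scalar _ c hc h

theorem mkG_P2 : PresentedGroup.mk relsG (w2 ^ 120 * (v ^ 3)⁻¹) = 1 := by
  obtain ⟨c, hc, h⟩ := ev_P (w2 ^ 120 * (v ^ 3)⁻¹) (by simp)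
  exact mkG_eq_one_of_scalar _ c hc h

theorem mkG_cm (j : Fin 4) (x : FG) : PresentedGroup.mk relsG (cm (R j) x) = 1 := by
  rw [cm, map_mul, map_mul, map_mul, map_inv, map_inv, mkG_R]
  group

theorem relsC_mkG {r : FG} (h : r ∈ relsC) : PresentedGroup.mk relsG r = 1 := by
  have h' := relsC_cases h
  unfold extraC at h'
  simp only [List.mem_cons, List.not_mem_nil, or_false] at h'
  rcases h' with rfl | rfl | rfl | rfl | rfl | rfl | rfl | rfl | rfl | rfl | rfl | rfl
  · exact PresentedGroup.one_of_mem (mem_relsG (by rw [extraG_eq]; simp))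
  · exact PresentedGroup.one_of_mem (mem_relsG (by rw [extraG_eq]; simp))
  · exact mkG_P1
  · exact mkG_P2
  all_goals exact mkG_cm _ _

theorem lift_of_eq_mk {rels : Set FG} (r : FG) :
    FreeGroup.lift (PresentedGroup.of (rels := rels)) r = PresentedGroup.mk rels r := by
  have h : FreeGroup.lift (PresentedGroup.of (rels := rels)) = PresentedGroup.mk rels := by
    apply FreeGroup.ext_hom
    intro a
    rw [FreeGroup.lift_apply_of]
    rfl
  rw [h]

/-- The map from the covering group to the simple group. -/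
noncomputable def nu : PC →* PL34 :=
  PresentedGroup.toGroup (f := PresentedGroup.of) (by
    intro r hr
    rw [lift_of_eq_mk]
    exact relsC_mkG hr)

theorem nu_of (a : Fin 2) : nu (PresentedGroup.of a) = PresentedGroup.of a :=
  PresentedGroup.toGroup.of _

theorem nu_mk (r : FG) : nu (PresentedGroup.mk relsC r) = PresentedGroup.mk relsG r := by
  have h : nu.comp (PresentedGroup.mk relsC) = PresentedGroup.mk relsG := by
    apply FreeGroup.ext_hom
    intro a
    rw [MonoidHom.comp_apply]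
    exact nu_of a
  exact DFunLike.congr_fun h r

theorem nu_surjective : Function.Surjective nu := by
  intro g
  obtain ⟨r, rfl⟩ := PresentedGroup.mk_surjective relsG g
  exact ⟨PresentedGroup.mk relsC r, nu_mk r⟩

/-- The images of the relators of the simple group. -/
noncomputable def z (j : Fin 4) : PC := PresentedGroup.mk relsC (R j)

theorem nu_z (j : Fin 4) : nu (z j) = 1 := by
  rw [z, nu_mk]
  exact mkG_R j

theorem cm_mem (j : Fin 4) (a : Fin 2) : cm (R j) (FreeGroup.of a) ∈ relsC := by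
  apply mem_relsC
  unfold extraC
  fin_cases j <;> fin_cases a <;> simp [u, v]

theorem z_comm_of (j : Fin 4) (a : Fin 2) :
    z j * PresentedGroup.of a = PresentedGroup.of a * z j := by
  have h := PresentedGroup.one_of_mem (cm_mem j a)
  rw [cm, map_mul, map_mul, map_mul, map_inv, map_inv] at h
  have h2 : PresentedGroup.mk relsC (FreeGroup.of a) = PresentedGroup.of a := rfl
  rw [h2] at h
  change z j * PresentedGroup.of a * (z j)⁻¹ * (PresentedGroup.of a)⁻¹ = 1 at h
  calc z j * PresentedGroup.of a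
      = (z j * PresentedGroup.of a * (z j)⁻¹ * (PresentedGroup.of a)⁻¹) *
        (PresentedGroup.of a * z j) := by group
    _ = PresentedGroup.of a * z j := by rw [h, one_mul]

theorem central_of_comm_of (g : PC)
    (h : ∀ a : Fin 2, g * PresentedGroup.of a = PresentedGroup.of a * g) :
    g ∈ Subgroup.center PC := by
  rw [Subgroup.mem_center_iff]
  intro x
  have hx : x ∈ Subgroup.closure (Set.range (PresentedGroup.of (rels := relsC))) := by
    rw [PresentedGroup.closure_range_of]
    exact Subgroup.mem_top x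
  induction hx using Subgroup.closure_induction with
  | mem y hy =>
    obtain ⟨a, rfl⟩ := hy
    exact (h a).symm
  | one => rw [one_mul, mul_one]
  | mul x y _ _ hx hy => rw [mul_assoc, hy, ← mul_assoc, hx, mul_assoc]
  | inv x _ hx =>
    calc x⁻¹ * g = x⁻¹ * (g * x) * x⁻¹ := by group
      _ = x⁻¹ * (x * g) * x⁻¹ := by rw [hx]
      _ = g * x⁻¹ := by group

theorem z_central (j : Fin 4) : z j ∈ Subgroup.center PC :=
  central_of_comm_of (z j) (z_comm_of j)

/-- The subgroup generated by the images of the relators. -/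
noncomputable def Z : Subgroup PC := Subgroup.closure (Set.range z)

theorem Z_le_center : Z ≤ Subgroup.center PC := by
  rw [Z, Subgroup.closure_le]
  rintro _ ⟨j, rfl⟩
  exact z_central j

instance Z_normal : Z.Normal := by
  constructor
  intro n hn g
  have h := Subgroup.mem_center_iff.1 (Z_le_center hn) g
  have e : g * n * g⁻¹ = n := by
    rw [h]
    group
  rw [e]
  exact hn

theorem Z_le_ker : Z ≤ nu.ker := by
  rw [Z, Subgroup.closure_le]
  rintro _ ⟨j, rfl⟩
  exact nu_z j

/-- The inverse map, modulo `Z`. -/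
noncomputable def psi : PL34 →* PC ⧸ Z :=
  PresentedGroup.toGroup (f := fun a => ((PresentedGroup.of a : PC) : PC ⧸ Z)) (by
    intro r hr
    have h1 : FreeGroup.lift (fun a => ((PresentedGroup.of a : PC) : PC ⧸ Z)) r =
        ((PresentedGroup.mk relsC r : PC) : PC ⧸ Z) := by
      have h : FreeGroup.lift (fun a => ((PresentedGroup.of a : PC) : PC ⧸ Z)) =
          (QuotientGroup.mk' Z).comp (PresentedGroup.mk relsC) := by
        apply FreeGroup.ext_hom
        intro a
        rw [FreeGroup.lift_apply_of]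
        rfl
      rw [h]
      rfl
    rw [h1]
    rcases hr with hr | hr
    · obtain ⟨x, hx, -⟩ := hr
      exact absurd hx (by simp [coxNodes, L34B0.edges])
    · have hr' : r ∈ L34B0.extra := hr
      rw [extraG_eq] at hr'
      simp only [List.mem_cons, List.not_mem_nil, or_false] at hr'
      rcases hr' with rfl | rfl | rfl | rfl | rfl | rfl
      · rw [PresentedGroup.one_of_mem (mem_relsC (by unfold extraC; simp))]
        rfl
      · rw [PresentedGroup.one_of_mem (mem_relsC (by unfold extraC; simp))]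
        rfl
      · rw [QuotientGroup.eq_one_iff]
        exact Subgroup.subset_closure ⟨0, rfl⟩
      · rw [QuotientGroup.eq_one_iff]
        exact Subgroup.subset_closure ⟨1, rfl⟩
      · rw [QuotientGroup.eq_one_iff]
        exact Subgroup.subset_closure ⟨2, rfl⟩
      · rw [QuotientGroup.eq_one_iff]
        exact Subgroup.subset_closure ⟨3, rfl⟩)

theorem psi_comp : psi.comp nu = QuotientGroup.mk' Z := by
  apply PresentedGroup.ext
  intro a
  rw [MonoidHom.comp_apply, nu_of]
  exact PresentedGroup.toGroup.of _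

theorem ker_eq : nu.ker = Z := by
  apply le_antisymm _ Z_le_ker
  intro g hg
  have h1 : psi.comp nu g = 1 := by
    rw [MonoidHom.comp_apply, MonoidHom.mem_ker.1 hg, map_one]
  rw [psi_comp] at h1
  exact (QuotientGroup.eq_one_iff g).1 h1

theorem ker_le_center : nu.ker ≤ Subgroup.center PC := ker_eq ▸ Z_le_center

/-! ### The generators -/

/-- The image of the second generator. -/
noncomputable def vbar : PC := PresentedGroup.of 1

/-- The image of the first generator. -/
noncomputable def ubar : PC := PresentedGroup.of 0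

theorem mk_v : PresentedGroup.mk relsC v = vbar := rfl

theorem mk_u : PresentedGroup.mk relsC u = ubar := rfl

theorem vbar_pow : vbar ^ 7 = 1 := by
  have h : v ^ 7 ∈ relsC := mem_relsC (by unfold extraC; simp)
  have h1 := PresentedGroup.one_of_mem h
  rwa [map_pow] at h1

theorem ubar_pow : ubar ^ 5 = 1 := by
  have h : u ^ 5 ∈ relsC := mem_relsC (by unfold extraC; simp)
  have h1 := PresentedGroup.one_of_mem h
  rwa [map_pow] at h1

theorem g3_entry1 : (g3 1).toMat 0 1 ≠ 0 := by decide +kernel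

theorem gP_ne_one1 {F : Type*} [Field F] [Fintype F] (hF : Fintype.card F = 4) : gP hF 1 ≠ 1 := by
  intro h1
  have h2 := (QuotientGroup.eq_one_iff _).1 h1
  rw [Matrix.SpecialLinearGroup.mem_center_iff] at h2
  obtain ⟨c, -, hc⟩ := h2
  have h3 : (gS hF 1 : Matrix (Fin 3) (Fin 3) F) 0 1 = eF hF ((g3 1).toMat 0 1) := rfl
  rw [← hc] at h3
  simp only [Matrix.scalar_apply, Matrix.diagonal_apply] at h3
  rw [if_neg (by decide)] at h3
  exact g3_entry1 ((map_eq_zero_iff _ (eF hF).injective).1 h3.symm)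

theorem nu_vbar_ne : nu vbar ≠ 1 := by
  rw [vbar, nu_of]
  intro h
  have h1 := theta_of (F := F4) F4.card 1
  rw [h, map_one] at h1
  exact gP_ne_one1 F4.card h1.symm

theorem orderOf_nu_vbar : orderOf (nu vbar) = 7 := by
  have : Fact (Nat.Prime 7) := ⟨by norm_num⟩
  apply orderOf_eq_prime _ nu_vbar_ne
  rw [← map_pow, vbar_pow, map_one]

theorem orderOf_vbar : orderOf vbar = 7 := by
  have : Fact (Nat.Prime 7) := ⟨by norm_num⟩
  apply orderOf_eq_prime vbar_pow
  intro h
  exact nu_vbar_ne (by rw [h, map_one])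

/-- An element of the subgroup generated by the second generator that lies in the kernel is
trivial. -/
theorem zpowers_inf_ker (g : PC) (hg : g ∈ Subgroup.zpowers vbar) (hk : g ∈ nu.ker) : g = 1 := by
  obtain ⟨k, rfl⟩ := hg
  rw [MonoidHom.mem_ker, map_zpow] at hk
  have h1 : (orderOf (nu vbar) : ℤ) ∣ k := orderOf_dvd_iff_zpow_eq_one.2 hk
  rw [orderOf_nu_vbar] at h1
  have h2 : (orderOf vbar : ℤ) ∣ k := by rw [orderOf_vbar]; exact h1
  exact orderOf_dvd_iff_zpow_eq_one.1 h2

/-! ### The covering group is perfect -/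

theorem w1_mem : w1 ^ 96 * (u ^ 2)⁻¹ ∈ relsC := mem_relsC (by unfold extraC; simp)

theorem w2_mem : w2 ^ 120 * (v ^ 3)⁻¹ ∈ relsC := mem_relsC (by unfold extraC; simp)

theorem comm_w1 {A : Type*} [CommGroup A] (a b : A) :
    b⁻¹ * a * b⁻¹ * a⁻¹ * b * a⁻¹ * b * a = 1 := by
  have h : b⁻¹ * a * b⁻¹ * a⁻¹ * b * a⁻¹ * b * a =
      (b⁻¹ * b) * (a * a⁻¹) * (b⁻¹ * b) * (a⁻¹ * a) := by
    simp only [mul_comm, mul_left_comm, mul_assoc]
  rw [h]
  simp

theorem comm_w2 {A : Type*} [CommGroup A] (a b : A) :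
    b⁻¹ * a⁻¹ * b * a * b⁻¹ * a * b * a⁻¹ = 1 := by
  have h : b⁻¹ * a⁻¹ * b * a * b⁻¹ * a * b * a⁻¹ =
      (b⁻¹ * b) * (a⁻¹ * a) * (b⁻¹ * b) * (a * a⁻¹) := by
    simp only [mul_comm, mul_left_comm, mul_assoc]
  rw [h]
  simp

theorem commutator_eq_top : commutator PC = ⊤ := by
  rw [← Abelianization.ker_of]
  set φ : PC →* Abelianization PC := Abelianization.of with hφ
  have hu : φ ubar = 1 := by
    have h1 := PresentedGroup.one_of_mem w1_mem
    rw [map_mul, map_pow, map_inv, map_pow, mk_u] at h1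
    have h2 : ubar ^ 2 = PresentedGroup.mk relsC w1 ^ 96 := by
      calc ubar ^ 2 = (PresentedGroup.mk relsC w1 ^ 96 * (ubar ^ 2)⁻¹)⁻¹ *
            PresentedGroup.mk relsC w1 ^ 96 := by group
        _ = PresentedGroup.mk relsC w1 ^ 96 := by rw [h1, inv_one, one_mul]
    have h3 : φ (PresentedGroup.mk relsC w1) = 1 := by
      simp only [w1, map_mul, map_inv, mk_u, mk_v]
      exact comm_w1 _ _
    have h2' : φ ubar ^ 2 = 1 := by rw [← map_pow, h2, map_pow, h3, one_pow]
    have h5 : φ ubar ^ 5 = 1 := by rw [← map_pow, ubar_pow, map_one]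
    calc φ ubar = φ ubar ^ 5 * ((φ ubar ^ 2) ^ 2)⁻¹ := by
          rw [← pow_mul]; group
      _ = 1 := by rw [h2', h5]; simp
  have hv : φ vbar = 1 := by
    have h1 := PresentedGroup.one_of_mem w2_mem
    rw [map_mul, map_pow, map_inv, map_pow, mk_v] at h1
    have h2 : vbar ^ 3 = PresentedGroup.mk relsC w2 ^ 120 := by
      calc vbar ^ 3 = (PresentedGroup.mk relsC w2 ^ 120 * (vbar ^ 3)⁻¹)⁻¹ *
            PresentedGroup.mk relsC w2 ^ 120 := by group
        _ = PresentedGroup.mk relsC w2 ^ 120 := by rw [h1, inv_one, one_mul]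
    have h3 : φ (PresentedGroup.mk relsC w2) = 1 := by
      simp only [w2, map_mul, map_inv, mk_u, mk_v]
      exact comm_w2 _ _
    have h5 : φ vbar ^ 3 = 1 := by rw [← map_pow, h2, map_pow, h3, one_pow]
    have h7 : φ vbar ^ 7 = 1 := by rw [← map_pow, vbar_pow, map_one]
    calc φ vbar = φ vbar ^ 7 * ((φ vbar ^ 3) ^ 2)⁻¹ := by
          rw [← pow_mul]; group
      _ = 1 := by rw [h5, h7]; simp
  rw [eq_top_iff, ← PresentedGroup.closure_range_of, Subgroup.closure_le]
  rintro _ ⟨a, rfl⟩
  rw [SetLike.mem_coe, MonoidHom.mem_ker]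
  fin_cases a
  · exact hu
  · exact hv

end Cfsg.Agent.Helper9.L34Cover
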