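import Mathlib
import Cfsg.Agent.Lib.Helper9.L34.Cover
import Cfsg.Agent.Lib.Helper9.LTCNode
import Cfsg.Agent.Lib.Helper9.TCData.L34A0.Cert
import Cfsg.Agent.Lib.Helper9.TCData.L34L0.All
import Cfsg.Agent.Lib.Helper9.TCData.L34L0.Comb
import Cfsg.Agent.Lib.Helper9.TCData.L34L0.RelAll
import Cfsg.Agent.Lib.Helper9.TCData.L34L0.Node

set_option autoImplicit false
set_option maxRecDepth 1000000

/-! The kernel of the cover of `PSL(3,4)`: relations among the central generators from a labelled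
coset table. -/

namespace Cfsg.Agent.Helper9.L34CoverU

open Cfsg Cfsg.Agent.Helper9 Cfsg.Agent.Helper9.TC2 Cfsg.Agent.Helper9.TCData
  Cfsg.Spor Cfsg.Agent.Helper9.L34Simple Cfsg.Agent.Helper9.L34Cover Cfsg.Agent.Helper9.LTC
open scoped IsMulCommutative

theorem colsOK : ColsOK ([] : List (Fin 2 × ℕ × Fin 2)) L34A0.cols :=
  ⟨by decide, by decide, by decide, by decide⟩

/-- The columns in the covering group. -/
noncomputable def eC : ℕ → PC := eCol [] extraC L34A0.cols

/-- The subgroup of the covering group. -/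
abbrev H : Subgroup PC := coxH [] extraC {s | s ∈ L34A0.sgensL}

/-- The subgroup of the simple group. -/
abbrev HG : Subgroup PL34 := coxH L34A0.edges L34A0.extra {s | s ∈ L34A0.sgensL}

theorem H_eq : H = Subgroup.zpowers vbar := by
  have hS : ({s | s ∈ L34A0.sgensL} : Set FG) = {v} := by
    ext s
    simp only [L34A0.sgensL, List.mem_singleton, Set.mem_ofPred_eq, Set.mem_singleton_iff]
    rfl
  unfold H coxH
  rw [hS, ← Subgroup.zpowers_eq_closure, MonoidHom.map_zpowers]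
  rfl

theorem map_H : H.map nu = HG := by
  have h : nu.comp (PresentedGroup.mk relsC) = PresentedGroup.mk relsG := by
    apply FreeGroup.ext_hom
    intro a
    rw [MonoidHom.comp_apply]
    exact nu_of a
  show ((Subgroup.closure {s | s ∈ L34A0.sgensL}).map (PresentedGroup.mk relsC)).map nu = _
  rw [Subgroup.map_map, h]
  rfl

theorem nu_mem_HG {g : PC} (hg : g ∈ H) : nu g ∈ HG := by
  rw [← map_H]
  exact Subgroup.mem_map_of_mem nu hg

/-- The permutation representation of the simple group on the nodes. -/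
noncomputable def phiG : PL34 →* Equiv.Perm ℕ := L34A0.cert.phi

/-- The columns in the simple group. -/
noncomputable def eG : ℕ → PL34 := eCol L34A0.edges L34A0.extra L34A0.cert.cols

theorem phiG_H : ∀ g ∈ HG, phiG g 0 = 0 := L34A0.cert.phi_H

theorem phiG_e {c : ℕ} (hc : c < 4) {i : ℕ} (hi : i < 2880) :
    phiG (eG c) i = L34A0.tab.tau c i := L34A0.cert.phi_e hc hi

theorem phiG_inj (a b : PL34) (h : phiG a 0 = phiG b 0) : a⁻¹ * b ∈ HG := by
  have h1 : L34A0.cert.Phi (QuotientGroup.mk a) = L34A0.cert.Phi (QuotientGroup.mk b) := h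
  exact QuotientGroup.eq.1 (L34A0.cert.main_aux.2.1 h1)

/-- The node of a point. -/
noncomputable def nd : PC ⧸ H → ℕ :=
  Quotient.lift (fun g : PC => phiG (nu g) 0) (by
    intro a b hab
    have hab' : a⁻¹ * b ∈ H := QuotientGroup.leftRel_apply.1 hab
    have h1 := phiG_H _ (nu_mem_HG hab')
    show phiG (nu a) 0 = phiG (nu b) 0
    have e : nu b = nu a * nu (a⁻¹ * b) := by
      rw [← map_mul]
      congr 1
      group
    rw [e, map_mul, Equiv.Perm.mul_apply, h1])

theorem nd_mk (g : PC) : nd ((g : PC) : PC ⧸ H) = phiG (nu g) 0 := rfl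

theorem nu_eC {c : ℕ} (hc : c < 4) : nu (eC c) = eG c := by
  have hl : c < L34A0.cols.length := hc
  have hl' : c < L34A0.cert.cols.length := hc
  rw [eC, eG, eCol_of_lt hl, eCol_of_lt hl', nu_mk]
  rfl

theorem fibre (q q' : PC ⧸ H) (h : nd q = nd q') :
    ∃ k : Subgroup.center PC, (k : PC) ∈ Z ∧ q = (k : PC) • q' := by
  obtain ⟨g, rfl⟩ := QuotientGroup.mk_surjective q
  obtain ⟨g', rfl⟩ := QuotientGroup.mk_surjective q'
  rw [nd_mk, nd_mk] at h
  have h3 : (nu g)⁻¹ * nu g' ∈ HG := phiG_inj _ _ h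
  rw [← map_H] at h3
  obtain ⟨x, hx, hx'⟩ := h3
  -- the central element
  have hk : g⁻¹ * g' * x⁻¹ ∈ Z := by
    rw [← ker_eq, MonoidHom.mem_ker, map_mul, map_mul, map_inv, map_inv, hx']
    group
  have hkc : (g⁻¹ * g' * x⁻¹)⁻¹ ∈ Subgroup.center PC :=
    Subgroup.inv_mem _ (Z_le_center hk)
  refine ⟨⟨(g⁻¹ * g' * x⁻¹)⁻¹, hkc⟩, Z.inv_mem hk, ?_⟩
  show ((g : PC) : PC ⧸ H) = (g⁻¹ * g' * x⁻¹)⁻¹ • ((g' : PC) : PC ⧸ H)
  rw [MulAction.Quotient.smul_mk, smul_eq_mul]
  apply QuotientGroup.eq.2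
  have hcomm := Subgroup.mem_center_iff.1 hkc g⁻¹
  have e : g⁻¹ * ((g⁻¹ * g' * x⁻¹)⁻¹ * g') = x := by
    rw [← mul_assoc, hcomm]
    group
  rw [e]
  exact hx

/-- The node map. -/
noncomputable def NM : NodeMap H L34L0.tab eC Z where
  nd := nd
  nd_one := by
    rw [nd_mk, map_one, map_one]
    rfl
  nd_smul := by
    intro c hc q hq
    obtain ⟨g, rfl⟩ := QuotientGroup.mk_surjective q
    rw [MulAction.Quotient.smul_mk, smul_eq_mul, nd_mk, nd_mk, map_mul, map_mul,
      Equiv.Perm.mul_apply, nu_eC hc]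
    exact phiG_e hc hq
  fibre := fibre

/-- The central elements. -/
noncomputable def zc (j : ℕ) : Subgroup.center PC :=
  if h : j < 4 then ⟨z ⟨j, h⟩, z_central _⟩ else NM.zfree (j - 4)

theorem zc_lt {j : ℕ} (h : j < 4) : (zc j : PC) = z ⟨j, h⟩ := by
  unfold zc
  rw [dif_pos h]

theorem zc_free (i : ℕ) : zc (L34L0.tab.m + i) = NM.zfree i := by
  unfold zc
  have h : ¬ (L34L0.tab.m + i < 4) := by
    show ¬ (4 + i < 4)
    omega
  rw [dif_neg h]
  congr 1
  show 4 + i - 4 = i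
  omega

theorem zc_mem (j : ℕ) : (zc j : PC) ∈ Z := by
  by_cases h : j < 4
  · rw [zc_lt h]
    exact Subgroup.subset_closure ⟨_, rfl⟩
  · unfold zc
    rw [dif_neg h]
    exact NM.zfree_mem _

theorem zeta_mem (f : ℕ → ℤ) : (zeta zc 19 f : PC) ∈ Z := by
  have h : zeta zc 19 f ∈ Z.comap (Subgroup.center PC).subtype := by
    unfold zeta
    apply Subgroup.prod_mem
    intro i _
    apply Subgroup.zpow_mem
    exact zc_mem i
  exact h

/-! ### The relators -/

theorem hrelW : L34L0.relWords = [u ^ 5, v ^ 7, R 0, R 1, R 2, R 3, w1 ^ 96 * (u ^ 2)⁻¹,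
    w2 ^ 120 * (v ^ 3)⁻¹].map (colWord L34A0.cols) := by
  decide +kernel

theorem hrelL : L34L0.relLabs = [[], [], unitV 0, unitV 1, unitV 2, unitV 3, [], []] := by
  decide +kernel

theorem prod_eC (r : FG) :
    ((colWord L34A0.cols r).map eC).prod = PresentedGroup.mk relsC r :=
  prod_colWord_eCol colsOK r

theorem hrel_one {r : FG} (hr : r ∈ extraC) :
    ((colWord L34A0.cols r).map eC).prod = (zeta zc 19 (vec []) : PC) := by
  rw [prod_eC, PresentedGroup.one_of_mem (mem_relsC hr), vec_nil, zeta_zero]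
  rfl

theorem hrel_z (j : Fin 4) :
    ((colWord L34A0.cols (R j)).map eC).prod = (zeta zc 19 (vec (unitV j)) : PC) := by
  rw [prod_eC, vec_unitV, zeta_single _ _ (by omega), zc_lt j.2]
  rfl

theorem hrel (j : ℕ) : ((L34L0.relWords.getD j []).map eC).prod =
    (zeta zc L34L0.tab.d (vec (L34L0.relLabs.getD j [])) : PC) := by
  rw [hrelW, hrelL]
  by_cases hj : j < 8
  · interval_cases j
    · exact hrel_one (by unfold extraC; simp)
    · exact hrel_one (by unfold extraC; simp)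
    · exact hrel_z 0
    · exact hrel_z 1
    · exact hrel_z 2
    · exact hrel_z 3
    · exact hrel_one (by unfold extraC; simp)
    · exact hrel_one (by unfold extraC; simp)
  · rw [List.getD_eq_default _ _ (by simp; omega), List.getD_eq_default _ _ (by simp; omega),
      vec_nil, zeta_zero]
    rfl

theorem inv_eq : ∀ c < 4, L34L0.tab.inv c = invCol L34A0.cols c := by decide

/-- The interpretation of the labelled table. -/
noncomputable def interp : LInterp H L34L0.tab where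
  e := eC
  zc := zc
  e_inv := by
    intro c hc
    have hl : c < L34A0.cols.length := hc
    rw [inv_eq c hc, eC, eCol_invCol colsOK hl, mul_inv_cancel]
  rot_ok := rot_ok_of_chk L34L0.tab eC zc L34L0.relWords L34L0.relLabs L34L0.rotSrc
    L34L0.rot_src hrel
  hcols_ok := by
    intro c hc
    have hc2 : c = 2 := by simpa [L34L0.tab] using hc
    subst hc2
    have hl : 2 < L34A0.cols.length := by decide
    rw [eC, eCol_of_lt hl]
    exact Subgroup.mem_map_of_mem _ (Subgroup.subset_closure (by simp [L34A0.sgensL, L34A0.cols]))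
  free_ok := by
    intro i hi _ _
    rw [zc_free]
    exact NM.zfree_spec L34L0.hNode L34L0.hn L34L0.hFree hi

theorem zeta_rho : ∀ ρ ∈ L34L0.rhos, zeta zc 19 (vec ρ) = 1 := by
  intro ρ hρ
  obtain ⟨i, s, hs, h⟩ := L34L0.rel_all ρ hρ
  have h1 : (zeta zc 19 (vec ρ) : PC) ∈ H := relVec_sound interp L34L0.h0 L34L0.hE hs h
  have h2 : (zeta zc 19 (vec ρ) : PC) ∈ Z := zeta_mem _
  apply Subtype.ext
  rw [H_eq] at h1
  rw [← ker_eq] at h2
  exact zpowers_inf_ker _ h1 h2

/-! ### The relations among the central generators -/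

theorem zeta_unit {j : ℕ} (hj : j < 4) : (zeta zc 19 (vec (unitV j)) : PC) = z ⟨j, hj⟩ := by
  rw [vec_unitV, zeta_single _ _ (by omega), zc_lt hj]

theorem rel0 : z 0 = z 2 ^ 10 := by
  have h := zeta_vcomb zc 19 L34L0.cs0 L34L0.rhos zeta_rho
  rw [vec_veq L34L0.comb_0, vec_vsub, vec_vsmul, zeta_sub, zeta_smul] at h
  have h1 := congrArg (fun x : Subgroup.center PC => (x : PC)) h
  simp only [Subgroup.coe_mul, Subgroup.coe_inv, Subgroup.coe_zpow, Subgroup.coe_one] at h1
  rw [zeta_unit (by norm_num : 0 < 4), zeta_unit (by norm_num : 2 < 4)] at h1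
  have h2 : z 0 = z 2 ^ (10 : ℤ) := mul_inv_eq_one.1 h1
  rw [h2]
  exact zpow_natCast (z 2) 10

theorem rel1 : z 1 = z 2 ^ 2 := by
  have h := zeta_vcomb zc 19 L34L0.cs1 L34L0.rhos zeta_rho
  rw [vec_veq L34L0.comb_1, vec_vsub, vec_vsmul, zeta_sub, zeta_smul] at h
  have h1 := congrArg (fun x : Subgroup.center PC => (x : PC)) h
  simp only [Subgroup.coe_mul, Subgroup.coe_inv, Subgroup.coe_zpow, Subgroup.coe_one] at h1
  rw [zeta_unit (by norm_num : 1 < 4), zeta_unit (by norm_num : 2 < 4)] at h1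
  have h2 : z 1 = z 2 ^ (2 : ℤ) := mul_inv_eq_one.1 h1
  rw [h2]
  exact zpow_natCast (z 2) 2

theorem rel2 : z 2 ^ 12 = 1 := by
  have h := zeta_vcomb zc 19 L34L0.cs2 L34L0.rhos zeta_rho
  rw [vec_veq L34L0.comb_2, vec_vsmul, zeta_smul] at h
  have h1 := congrArg (fun x : Subgroup.center PC => (x : PC)) h
  simp only [Subgroup.coe_zpow, Subgroup.coe_one] at h1
  rw [zeta_unit (by norm_num : 2 < 4)] at h1
  have h2 : z 2 ^ (12 : ℤ) = 1 := h1
  rw [← h2]
  exact (zpow_natCast (z 2) 12).symm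

theorem rel3 : (z 3 * (z 2 ^ 2)⁻¹) ^ 4 = 1 := by
  have h := zeta_vcomb zc 19 L34L0.cs3 L34L0.rhos zeta_rho
  rw [vec_veq L34L0.comb_3, vec_vsub, vec_vsmul, vec_vsmul, zeta_sub, zeta_smul, zeta_smul] at h
  have h1 := congrArg (fun x : Subgroup.center PC => (x : PC)) h
  simp only [Subgroup.coe_mul, Subgroup.coe_inv, Subgroup.coe_zpow, Subgroup.coe_one] at h1
  rw [zeta_unit (by norm_num : 3 < 4), zeta_unit (by norm_num : 2 < 4)] at h1
  have hc : Commute (z 3) ((z 2 ^ 2)⁻¹) := (Subgroup.mem_center_iff.1 (z_central 3) _).symm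
  rw [hc.mul_pow, inv_pow, ← pow_mul]
  have e1 : z 3 ^ (4 : ℤ) = z 3 ^ 4 := zpow_natCast (z 3) 4
  have e2 : z 2 ^ (8 : ℤ) = z 2 ^ (2 * 4) := zpow_natCast (z 2) 8
  have h2 : z 3 ^ (4 : ℤ) * (z 2 ^ (8 : ℤ))⁻¹ = 1 := h1
  rw [← e1, ← e2]
  exact h2

end Cfsg.Agent.Helper9.L34CoverU
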