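import Mathlib
import Cfsg.Agent.Lib.Helper9.L34.CoverU
import Cfsg.Agent.Lib.Helper9.LPerm
import Cfsg.Agent.Lib.Helper9.AbHom
import Cfsg.Agent.Lib.Helper9.TCData.L34M0.All

set_option autoImplicit false
set_option maxRecDepth 1000000

/-! The kernel of the cover of `PSL(3,4)` has order 48 and is the product of cyclic groups of
orders 3, 4, 4: the lower bound comes from a permutation representation of the cover on the
points of a labelled coset table. -/

namespace Cfsg.Agent.Helper9.L34CoverL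

open Cfsg Cfsg.Agent.Helper9 Cfsg.Agent.Helper9.TC2 Cfsg.Agent.Helper9.TCData
  Cfsg.Spor Cfsg.Agent.Helper9.L34Simple Cfsg.Agent.Helper9.L34Cover Cfsg.Agent.Helper9.LTC
  Cfsg.Agent.Helper9.LPerm Cfsg.Agent.Helper9.L34CoverU

/-- The points. -/
abbrev Ω : Type := Pt L34M0.ptab

/-- The columns as permutations. -/
noncomputable def E (c : ℕ) : Equiv.Perm Ω := permP L34M0.pok c

theorem hfixW : L34M0.fixWords = extraC.map (fun r => (colWord L34A0.cols r).reverse) := by
  decide +kernel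

theorem hzW : L34M0.zWords = [R 0, R 1, R 2, R 3].map (fun r => (colWord L34A0.cols r).reverse) := by
  decide +kernel

/-- The generators as permutations. -/
noncomputable def fP (a : Fin 2) : Equiv.Perm Ω := E (L34A0.cols.idxOf (a, true))

theorem idx_lt (x : Fin 2) : L34A0.cols.idxOf (x, true) < L34M0.ptab.k := by
  fin_cases x <;> decide

theorem idx_false (x : Fin 2) :
    L34A0.cols.idxOf (x, false) = L34M0.ptab.inv (L34A0.cols.idxOf (x, true)) := by
  fin_cases x <;> rfl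

theorem lift_fP (r : FG) : FreeGroup.lift fP r = wprod E (colWord L34A0.cols r).reverse := by
  rw [wprod_eq_prod, List.reverse_reverse]
  symm
  apply prod_colWord colsOK (FreeGroup.lift fP) E
  · intro x
    rw [FreeGroup.lift_apply_of]
    rfl
  · intro x _
    rw [FreeGroup.lift_apply_of, idx_false]
    exact permP_inv L34M0.pok (idx_lt x)
  · intro x hx
    exact absurd (by fin_cases x <;> decide) hx

theorem word_lt (r : FG) : ∀ c ∈ (colWord L34A0.cols r).reverse, c < L34M0.ptab.k := by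
  intro c hc
  exact colWord_lt colsOK r c (List.mem_reverse.1 hc)

/-- The permutation representation of the covering group. -/
noncomputable def Psi : PC →* Equiv.Perm Ω :=
  PresentedGroup.toGroup (f := fP) (by
    intro r hr
    rw [lift_fP]
    refine wprod_eq_one L34M0.pok L34M0.hFix ?_ (word_lt r)
    rw [hfixW]
    exact List.mem_map_of_mem (relsC_cases hr))

theorem Psi_mk (r : FG) :
    Psi (PresentedGroup.mk relsC r) = wprod E (colWord L34A0.cols r).reverse := by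
  rw [← lift_fP]
  rfl

/-- The permutation translates the points over the node `0`. -/
def IsTrans (g : Equiv.Perm Ω) (s1 : ZMod L34M0.ptab.a1) (s2 : ZMod L34M0.ptab.a2) : Prop :=
  ∀ a b, g ((0 : ℕ), a, b) = ((0 : ℕ), a + s1, b + s2)

theorem IsTrans.mul {g h : Equiv.Perm Ω} {s1 t1 : ZMod L34M0.ptab.a1}
    {s2 t2 : ZMod L34M0.ptab.a2} (hg : IsTrans g s1 s2) (hh : IsTrans h t1 t2) :
    IsTrans (g * h) (t1 + s1) (t2 + s2) := by
  intro a b
  rw [Equiv.Perm.mul_apply, hh a b, hg, add_assoc, add_assoc]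

theorem IsTrans.one : IsTrans 1 0 0 := by
  intro a b
  rw [Equiv.Perm.one_apply, add_zero, add_zero]

theorem IsTrans.pow {g : Equiv.Perm Ω} {s1 : ZMod L34M0.ptab.a1}
    {s2 : ZMod L34M0.ptab.a2} (hg : IsTrans g s1 s2) (n : ℕ) :
    IsTrans (g ^ n) ((n : ZMod L34M0.ptab.a1) * s1) ((n : ZMod L34M0.ptab.a2) * s2) := by
  induction n with
  | zero =>
    rw [pow_zero, Nat.cast_zero, Nat.cast_zero, zero_mul, zero_mul]
    exact IsTrans.one
  | succ n ih =>
    rw [pow_succ]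
    have h := ih.mul hg
    have e1 : ((n + 1 : ℕ) : ZMod L34M0.ptab.a1) * s1 = s1 + (n : ZMod L34M0.ptab.a1) * s1 := by
      push_cast
      ring
    have e2 : ((n + 1 : ℕ) : ZMod L34M0.ptab.a2) * s2 = s2 + (n : ZMod L34M0.ptab.a2) * s2 := by
      push_cast
      ring
    rw [e1, e2]
    exact h

theorem trans_z2 : IsTrans (Psi (z 2)) ((1 : ℕ) : ZMod L34M0.ptab.a1)
    ((1 : ℕ) : ZMod L34M0.ptab.a2) := by
  intro a b
  rw [z, Psi_mk]
  have hw : (colWord L34A0.cols (R 2)).reverse = L34M0.zWords.getD 2 [] := by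
    rw [hzW]
    rfl
  have h := wprod_of_chkW L34M0.pok (w := L34M0.zWords.getD 2 []) (by rw [← hw]; exact word_lt _)
    (by decide : 0 < L34M0.ptab.n) L34M0.hz_2 a b
  rw [hw]
  exact h

theorem trans_z3 : IsTrans (Psi (z 3)) ((2 : ℕ) : ZMod L34M0.ptab.a1)
    ((3 : ℕ) : ZMod L34M0.ptab.a2) := by
  intro a b
  rw [z, Psi_mk]
  have hw : (colWord L34A0.cols (R 3)).reverse = L34M0.zWords.getD 3 [] := by
    rw [hzW]
    rfl
  have h := wprod_of_chkW L34M0.pok (w := L34M0.zWords.getD 3 []) (by rw [← hw]; exact word_lt _)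
    (by decide : 0 < L34M0.ptab.n) L34M0.hz_3 a b
  rw [hw]
  exact h

theorem trans_ij (i j : ℕ) : IsTrans (Psi (z 2 ^ i * z 3 ^ j))
    ((j : ZMod L34M0.ptab.a1) * ((2 : ℕ) : ZMod L34M0.ptab.a1) +
      (i : ZMod L34M0.ptab.a1) * ((1 : ℕ) : ZMod L34M0.ptab.a1))
    ((j : ZMod L34M0.ptab.a2) * ((3 : ℕ) : ZMod L34M0.ptab.a2) +
      (i : ZMod L34M0.ptab.a2) * ((1 : ℕ) : ZMod L34M0.ptab.a2)) := by
  rw [map_mul, map_pow, map_pow]
  exact (trans_z2.pow i).mul (trans_z3.pow j)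

theorem solve : ∀ a : ZMod 12, ∀ b : ZMod 4, ∃ i : ℕ, i < 12 ∧ ∃ j : ℕ, j < 4 ∧
    ((j : ℕ) : ZMod 12) * ((2 : ℕ) : ZMod 12) + ((i : ℕ) : ZMod 12) * ((1 : ℕ) : ZMod 12) = a ∧
    ((j : ℕ) : ZMod 4) * ((3 : ℕ) : ZMod 4) + ((i : ℕ) : ZMod 4) * ((1 : ℕ) : ZMod 4) = b := by
  decide

/-! ### The order of the kernel -/

theorem mem_Z_ij (i j : ℕ) : z 2 ^ i * z 3 ^ j ∈ Z :=
  Z.mul_mem (Z.pow_mem (Subgroup.subset_closure ⟨2, rfl⟩) i)
    (Z.pow_mem (Subgroup.subset_closure ⟨3, rfl⟩) j)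

/-- The translation of an element of the kernel. -/
noncomputable def tr (g : Z) : ZMod L34M0.ptab.a1 × ZMod L34M0.ptab.a2 :=
  (Psi (g : PC) ((0 : ℕ), 0, 0)).2

theorem tr_surjective : Function.Surjective tr := by
  rintro ⟨a, b⟩
  obtain ⟨i, -, j, -, h1, h2⟩ := solve a b
  refine ⟨⟨z 2 ^ i * z 3 ^ j, mem_Z_ij i j⟩, ?_⟩
  unfold tr
  rw [trans_ij i j 0 0, zero_add, zero_add]
  exact Prod.ext h1 h2

theorem card_target : Nat.card (ZMod L34M0.ptab.a1 × ZMod L34M0.ptab.a2) = 48 := by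
  show Nat.card (ZMod 12 × ZMod 4) = 48
  rw [Nat.card_prod, Nat.card_zmod, Nat.card_zmod]

theorem card_dom : Nat.card (Multiplicative (ZMod 3 × ZMod 4 × ZMod 4)) = 48 := by
  show Nat.card (ZMod 3 × ZMod 4 × ZMod 4) = 48
  rw [Nat.card_prod, Nat.card_prod, Nat.card_zmod, Nat.card_zmod]

/-- The generators of the kernel as elements of the centre. -/
noncomputable def tC : Subgroup.center PC := ⟨z 2, z_central 2⟩

/-- The second generator of the kernel as an element of the centre. -/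
noncomputable def sC : Subgroup.center PC := ⟨z 3, z_central 3⟩ * (tC ^ 2)⁻¹

open scoped IsMulCommutative in
theorem exists_hom : ∃ ψ : Multiplicative (ZMod 3 × ZMod 4 × ZMod 4) →* PC, Z ≤ ψ.range := by
  have h1 : (tC ^ 4) ^ 3 = 1 := by
    apply Subtype.ext
    show (z 2 ^ 4) ^ 3 = 1
    rw [← pow_mul]
    exact rel2
  have h2 : (tC ^ 3) ^ 4 = 1 := by
    apply Subtype.ext
    show (z 2 ^ 3) ^ 4 = 1
    rw [← pow_mul]
    exact rel2
  have h3 : sC ^ 4 = 1 := by
    apply Subtype.ext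
    show (z 3 * (z 2 ^ 2)⁻¹) ^ 4 = 1
    exact rel3
  obtain ⟨φ, ha, hb, hc⟩ := AbHom.exists_hom_three 3 4 4 (tC ^ 4) (tC ^ 3) sC h1 h2 h3
  refine ⟨(Subgroup.center PC).subtype.comp φ, ?_⟩
  have ha' : z 2 ^ 4 ∈ ((Subgroup.center PC).subtype.comp φ).range := by
    obtain ⟨x, hx⟩ := ha
    exact ⟨x, by rw [MonoidHom.comp_apply, hx]; rfl⟩
  have hb' : z 2 ^ 3 ∈ ((Subgroup.center PC).subtype.comp φ).range := by
    obtain ⟨x, hx⟩ := hb
    exact ⟨x, by rw [MonoidHom.comp_apply, hx]; rfl⟩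
  have hc' : z 3 * (z 2 ^ 2)⁻¹ ∈ ((Subgroup.center PC).subtype.comp φ).range := by
    obtain ⟨x, hx⟩ := hc
    exact ⟨x, by rw [MonoidHom.comp_apply, hx]; rfl⟩
  set Rg := ((Subgroup.center PC).subtype.comp φ).range with hRg
  have h2' : z 2 ∈ Rg := by
    have e : z 2 = z 2 ^ 4 * (z 2 ^ 3)⁻¹ := by group
    rw [e]
    exact Rg.mul_mem ha' (Rg.inv_mem hb')
  have h3' : z 3 ∈ Rg := by
    have e : z 3 = z 3 * (z 2 ^ 2)⁻¹ * z 2 ^ 2 := by group
    rw [e]
    exact Rg.mul_mem hc' (Rg.pow_mem h2' 2)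
  rw [Z, Subgroup.closure_le]
  rintro _ ⟨j, rfl⟩
  fin_cases j
  · show z 0 ∈ Rg
    rw [rel0]
    exact Rg.pow_mem h2' 10
  · show z 1 ∈ Rg
    rw [rel1]
    exact Rg.pow_mem h2' 2
  · exact h2'
  · exact h3'

/-- The kernel is the product of cyclic groups of orders 3, 4 and 4. -/
theorem ker_structure : Finite Z ∧ Nat.card Z = 48 ∧
    Nonempty (nu.ker ≃* Multiplicative (ZMod 3 × ZMod 4 × ZMod 4)) := by
  obtain ⟨ψ, hψ⟩ := exists_hom
  have hfinR : Finite ψ.range := Finite.of_surjective ψ.rangeRestrict ψ.rangeRestrict_surjective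
  have hcardR : Nat.card ψ.range ≤ 48 := by
    rw [← card_dom]
    exact Nat.card_le_card_of_surjective ψ.rangeRestrict ψ.rangeRestrict_surjective
  have hfinZ : Finite Z := Finite.of_injective (Subgroup.inclusion hψ)
    (Subgroup.inclusion_injective hψ)
  have hle : Nat.card Z ≤ Nat.card ψ.range := Subgroup.card_le_of_le hψ
  have hge : 48 ≤ Nat.card Z := by
    rw [← card_target]
    exact Nat.card_le_card_of_surjective tr tr_surjective
  have hZ : Nat.card Z = 48 := by omega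
  have hR : Nat.card ψ.range = 48 := by omega
  have hZR : Z = ψ.range := Subgroup.eq_of_le_of_card_ge hψ (by omega)
  have hbij : Function.Bijective ψ.rangeRestrict :=
    (Nat.bijective_iff_surjective_and_card _).2 ⟨ψ.rangeRestrict_surjective, by
      rw [card_dom, hR]⟩
  refine ⟨hfinZ, hZ, ⟨?_⟩⟩
  exact (MulEquiv.subgroupCongr (ker_eq.trans hZR)).trans (MulEquiv.ofBijective _ hbij).symm

instance finite_PC : Finite PC := by
  have h1 : Finite nu.ker := by
    rw [ker_eq]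
    exact ker_structure.1
  have h2 : Finite (PC ⧸ nu.ker) := by
    have : Finite PL34 := hub.1
    exact Finite.of_equiv _ (QuotientGroup.quotientKerEquivOfSurjective nu nu_surjective).toEquiv.symm
  exact Finite.of_subgroup_quotient nu.ker

end Cfsg.Agent.Helper9.L34CoverL
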